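import Mathlib
import Cfsg.Agent.Lib.Helper12.OHyp.ExDefs
import Cfsg.Agent.Lib.Helper14.Forms
import Cfsg.Agent.Lib.Helper44.Block
import Cfsg.Agent.Lib.Helper40.Elusive
import Cfsg.Agent.Lib.Helper40.PrimeOrderGL

/-!
# OHYP project (S5992), EXIST cut: package [EBLK-ODD]
-/

set_option autoImplicit false

universe u

open Matrix Polynomial
open scoped MatrixGroups
open Cfsg.Agent.Lib.Helper23.OHyp Cfsg.Agent.Lib.Helper12.OHyp

namespace Cfsg.Agent.Lib.Helper39.OHyp

/-- a Mathlib quadratic form on `ι → F` with nondegenerate polar form is a nondegenerate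
quadratic form in the sense of the Prelude -/
theorem isNdQF_of_quadraticForm {ι : Type} [Fintype ι] [DecidableEq ι] {F : Type u} [Field F]
    (Q : QuadraticForm F (ι → F)) (h : (QuadraticMap.polarBilin Q).Nondegenerate) :
    Cfsg.Geo.IsNondegenerateQuadraticForm (⇑Q) where
  smul c v := by rw [QuadraticMap.map_smul, smul_eq_mul, pow_two]
  polar_bilinear :=
    ⟨fun x y v => QuadraticMap.polar_add_left Q x y v,
     fun c x v => by rw [QuadraticMap.polar_smul_left, smul_eq_mul],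
     fun v x y => QuadraticMap.polar_add_right Q v x y,
     fun c v x => by rw [QuadraticMap.polar_smul_right, smul_eq_mul]⟩
  nondegenerate := by
    intro v hv
    have key : ∃ x, QuadraticMap.polar Q v x ≠ 0 := by
      by_contra hcon
      push_neg at hcon
      apply hv
      exact h.1 v (fun n => by rw [QuadraticMap.polarBilin_apply_apply]; exact hcon n)
    obtain ⟨x, hx⟩ := key
    exact ⟨⟨x, by rw [QuadraticMap.polar_comm]; exact hx⟩, ⟨x, hx⟩⟩

/-- an element of `GL_i(q)`, `i = ord_r(q)`, of order dividing `r` without eigenvalue `1` -/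
theorem exists_M0 (F : Type u) [Field F] [Fintype F] (r : ℕ) (hr : r.Prime)
    (hrq : ¬ r ∣ Fintype.card F) :
    ∃ g : GL (Fin (ordI (Fintype.card F) r)) F, g ^ r = 1 ∧
      IsUnit ((g : Matrix (Fin (ordI (Fintype.card F) r)) (Fin (ordI (Fintype.card F) r)) F)
        - 1).det := by
  classical
  obtain ⟨p, hp⟩ := CharP.exists F
  have hpp : p.Prime := CharP.char_is_prime F p
  haveI : Fact p.Prime := ⟨hpp⟩
  haveI : Fact r.Prime := ⟨hr⟩
  have hrp : r ≠ p := by
    rintro rfl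
    obtain ⟨n, -, hcard⟩ := FiniteField.card F r
    exact hrq (by rw [hcard]; exact dvd_pow_self r n.ne_zero)
  obtain ⟨S, hS, hSne⟩ :=
    Cfsg.Agent.Lib.Helper40.Elusive.exists_factors (F := F) (p := p) rfl r hrp
  obtain ⟨π₀, hπ₀⟩ := hSne
  let a : S → ℕ := fun π => if π = ⟨π₀, hπ₀⟩ then 1 else 0
  have hsum : ∑ π, a π = 1 := by simp [a]
  obtain ⟨g, hgr, hgchi⟩ := Cfsg.Agent.Lib.Helper40.PrimeOrderGL.exists_GL_chi
    (n := orderOf ((Fintype.card F : ℕ) : ZMod r)) p hS hr.pos a (by rw [hsum, mul_one])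
  refine ⟨g, hgr, ?_⟩
  have hev : ∀ π ∈ S, π.eval 1 ≠ 0 := by
    intro π hπ h0
    have hdvd : (X - C 1 : F[X]) ∣ π := Polynomial.dvd_iff_isRoot.mpr h0
    have hassoc : Associated (X - C 1 : F[X]) π :=
      (Polynomial.irreducible_X_sub_C 1).associated_of_dvd (hS.irred π hπ) hdvd
    have heq : (X - C 1 : F[X]) = π :=
      Polynomial.eq_of_monic_of_associated (Polynomial.monic_X_sub_C 1) (hS.monic π hπ) hassoc
    exact hS.notMem (heq ▸ hπ)
  have h1 : (g.1).charpoly.eval 1 ≠ 0 := by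
    rw [hgchi]
    unfold Cfsg.Agent.Lib.Helper40.PrimeOrderGL.chi
    rw [hsum, mul_one, Nat.sub_self, pow_zero, one_mul, Polynomial.eval_prod]
    apply Finset.prod_ne_zero_iff.mpr
    intro π _
    rw [Polynomial.eval_pow]
    exact pow_ne_zero _ (hev π.1 π.2)
  rw [Matrix.eval_charpoly] at h1
  rw [isUnit_iff_ne_zero]
  intro h0
  apply h1
  have h2 : (Matrix.scalar (Fin (orderOf ((Fintype.card F : ℕ) : ZMod r))) (1 : F)
      - g.1) = -(g.1 - 1) := by simp
  rw [h2, Matrix.det_neg]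
  have h3 : (g.1 - 1).det = 0 := h0
  rw [h3, mul_zero]

/-- **[EBLK-ODD]** -/
theorem pkgEBlkOdd : PkgEBlkOdd.{u} := by
  intro F _ _ r hr hr2 hrq h2 hodd
  classical
  have key := exists_M0 F r hr hrq
  have hcc : cc (Fintype.card F) r = 2 * ordI (Fintype.card F) r := by
    unfold cc
    rw [if_neg (Nat.not_even_iff_odd.mpr hodd)]
  generalize ordI (Fintype.card F) r = i at key hcc hodd
  obtain ⟨g, hgr, hdet⟩ := key
  have hipos : 0 < i := hodd.pos
  let h : GL (Fin i) F :=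
    ⟨((g⁻¹ : GL (Fin i) F) : Matrix (Fin i) (Fin i) F)ᵀ, (g : Matrix (Fin i) (Fin i) F)ᵀ,
      by rw [← Matrix.transpose_mul, Units.mul_inv, Matrix.transpose_one],
      by rw [← Matrix.transpose_mul, Units.inv_mul, Matrix.transpose_one]⟩
  have hhcoe : (h : Matrix (Fin i) (Fin i) F)
      = ((g⁻¹ : GL (Fin i) F) : Matrix (Fin i) (Fin i) F)ᵀ := rfl
  have hh : h ^ r = 1 := by
    apply Units.ext
    rw [Units.val_pow_eq_pow_val, Units.val_one, hhcoe, ← Matrix.transpose_pow,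
      ← Units.val_pow_eq_pow_val, inv_pow, hgr, inv_one, Units.val_one, Matrix.transpose_one]
  let y : GL (Fin i ⊕ Fin i) F := Cfsg.Agent.Lib.Helper44.blockGL F (Fin i) (Fin i) (g, h)
  have hycoe : (y : Matrix (Fin i ⊕ Fin i) (Fin i ⊕ Fin i) F)
      = Matrix.fromBlocks (g : Matrix (Fin i) (Fin i) F) 0 0 (h : Matrix (Fin i) (Fin i) F) :=
    rfl
  have hyr : y ^ r = 1 := by
    show (Cfsg.Agent.Lib.Helper44.blockGL F (Fin i) (Fin i) (g, h)) ^ r = 1
    rw [← map_pow, Prod.pow_mk, hgr, hh]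
    exact map_one _
  refine ⟨Fin i ⊕ Fin i, inferInstance, inferInstance, Cfsg.quadFormPlus i F, y,
    ⟨Sum.inl ⟨0, hipos⟩⟩, ?_, ?_, ?_, hyr, ?_⟩
  · rw [hcc, Fintype.card_sum, Fintype.card_fin]
    ring
  · rw [← Cfsg.Agent.Lib.Helper14.plusQF_coe]
    exact isNdQF_of_quadraticForm _ (Cfsg.Agent.Lib.Helper14.plusQF_nondegenerate i F)
  · rw [Cfsg.Agent.Lib.Helper44.mem_isometryGroup_iff]
    intro u
    rw [hycoe]
    have hQ : ∀ w : Fin i ⊕ Fin i → F,
        Cfsg.quadFormPlus i F w = (w ∘ Sum.inl) ⬝ᵥ (w ∘ Sum.inr) := fun w => rfl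
    rw [hQ, hQ, Cfsg.Agent.Lib.Helper44.fromBlocks_diag_mulVec_inl,
      Cfsg.Agent.Lib.Helper44.fromBlocks_diag_mulVec_inr]
    rw [Matrix.dotProduct_mulVec, ← Matrix.mulVec_transpose, Matrix.mulVec_mulVec]
    have e : (h : Matrix (Fin i) (Fin i) F)ᵀ * (g : Matrix (Fin i) (Fin i) F) = 1 := by
      rw [hhcoe, Matrix.transpose_transpose, Units.inv_mul]
    rw [e, Matrix.one_mulVec]
  · have hu1 : IsUnit ((g : Matrix (Fin i) (Fin i) F) - 1) :=
      (Matrix.isUnit_iff_isUnit_det _).mpr hdet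
    have hu2 : IsUnit (((g⁻¹ : GL (Fin i) F) : Matrix (Fin i) (Fin i) F) - 1) := by
      have e : ((g⁻¹ : GL (Fin i) F) : Matrix (Fin i) (Fin i) F) - 1
          = -(((g⁻¹ : GL (Fin i) F) : Matrix (Fin i) (Fin i) F)
              * ((g : Matrix (Fin i) (Fin i) F) - 1)) := by
        rw [mul_sub, mul_one, Units.inv_mul]
        abel
      rw [e]
      exact ((Units.isUnit g⁻¹).mul hu1).neg
    have hdet2 : IsUnit ((h : Matrix (Fin i) (Fin i) F) - 1).det := by
      have e : (h : Matrix (Fin i) (Fin i) F) - 1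
          = (((g⁻¹ : GL (Fin i) F) : Matrix (Fin i) (Fin i) F) - 1)ᵀ := by
        rw [Matrix.transpose_sub, Matrix.transpose_one, hhcoe]
      rw [e, Matrix.det_transpose]
      exact (Matrix.isUnit_iff_isUnit_det _).mp hu2
    have e : (y : Matrix (Fin i ⊕ Fin i) (Fin i ⊕ Fin i) F) - 1
        = Matrix.fromBlocks ((g : Matrix (Fin i) (Fin i) F) - 1) 0 0
            ((h : Matrix (Fin i) (Fin i) F) - 1) := by
      rw [hycoe]
      ext (a | a) (b | b) <;> simp [Matrix.one_apply, Matrix.sub_apply]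
    rw [e, Matrix.det_fromBlocks_zero₂₁]
    exact hdet.mul hdet2

end Cfsg.Agent.Lib.Helper39.OHyp
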