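import Mathlib
import Cfsg.Agent.Lib.Helper59.OHyp.BlkDefs

/-!
# OHYP project (S5992), BLK cut: package [MINUS]
-/

set_option autoImplicit false

universe u

open Matrix
open Cfsg.Agent.Lib.Helper23.OHyp Cfsg.Agent.Lib.Helper59.OHyp

namespace Cfsg.Agent.Lib.Helper39.OHyp

/-- **[MINUS]** for `i` even a minimal invariant nondegenerate subspace of dimension `i` without
fixed vectors is not of plus type. -/
theorem pkgMinus_of (hS : PkgSingCnt.{u}) : PkgMinus.{u} := by
  intro F _ _ ι _ _ Q r x hStd D hMin hNoFix hNd hEven hdim hPlus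
  classical
  have : Fact r.Prime := ⟨hStd.prime⟩
  obtain ⟨hInv, hDne, -⟩ := hMin
  have hpos : 0 < Module.finrank F D := by
    by_contra h
    exact hDne (Submodule.finrank_eq_zero.mp (by omega))
  obtain ⟨m, hm⟩ := hEven
  have hm1 : 1 ≤ m := by omega
  obtain ⟨j, rfl⟩ : ∃ j, m = j + 1 := ⟨m - 1, by omega⟩
  have hcard := hS F ι Q hStd.nondeg hStd.two D j hNd hPlus (by rw [hdim, hm]; ring)
  obtain ⟨q, hq⟩ : ∃ q, q = Fintype.card F := ⟨_, rfl⟩
  rw [← hq] at hcard hm
  have hqpos : 0 < q := by rw [hq]; exact Fintype.card_pos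
  have hle : q ^ j ≤ q ^ (j + 1) := Nat.pow_le_pow_right hqpos (Nat.le_succ j)
  obtain ⟨N, hN⟩ : ∃ N, N = q ^ (2 * j + 1) + q ^ (j + 1) - q ^ j := ⟨_, rfl⟩
  rw [← hN] at hcard
  have h3 : N + q ^ j = q ^ (2 * j + 1) + q ^ (j + 1) := by omega
  -- the action of `x` on the singular vectors of `D`
  have hQ0 : Q 0 = 0 := by
    have h := hStd.nondeg.smul 0 0
    simpa using h
  let f : Function.End {v : ι → F // v ∈ D ∧ Q v = 0} := fun v =>
    ⟨x *ᵥ v.1, ⟨hInv (Submodule.mem_map.mpr ⟨v.1, v.2.1, by rw [Matrix.toLin'_apply]⟩),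
      by rw [hStd.isom]; exact v.2.2⟩⟩
  have hfpow : ∀ (n : ℕ) (v : {v : ι → F // v ∈ D ∧ Q v = 0}),
      ((f ^ n) v).1 = (x ^ n) *ᵥ v.1 := by
    intro n
    induction n with
    | zero =>
      intro v
      rw [pow_zero, pow_zero, Matrix.one_mulVec]
      rfl
    | succ n ih =>
      intro v
      rw [pow_succ, pow_succ]
      show ((f ^ n) (f v)).1 = _
      rw [ih, ← Matrix.mulVec_mulVec]
  have hf : f ^ r ^ 1 = 1 := by
    rw [pow_one]
    funext v
    apply Subtype.ext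
    rw [hfpow, hStd.pow, Matrix.one_mulVec]
    rfl
  have hmod := Equiv.Perm.card_fixedPoints_modEq (f := f) (p := r) (n := 1) hf
  rw [← Nat.card_eq_fintype_card, ← Nat.card_eq_fintype_card, hcard] at hmod
  have hfix : Nat.card (Function.fixedPoints f) = 1 := by
    rw [Nat.card_eq_one_iff_unique]
    refine ⟨⟨?_⟩, ⟨⟨⟨0, D.zero_mem, hQ0⟩, ?_⟩⟩⟩
    · rintro ⟨v, hv⟩ ⟨w, hw⟩
      apply Subtype.ext
      apply Subtype.ext
      have h1 : v.1 = 0 := hNoFix v.1 v.2.1 (congrArg Subtype.val hv)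
      have h2 : w.1 = 0 := hNoFix w.1 w.2.1 (congrArg Subtype.val hw)
      rw [h1, h2]
    · show f _ = _
      apply Subtype.ext
      show x *ᵥ (0 : ι → F) = 0
      simp
  rw [hfix] at hmod
  -- arithmetic in `ZMod r`
  have hz : ((N : ℕ) : ZMod r) = 1 := by
    have h := (ZMod.natCast_eq_natCast_iff _ _ _).mpr hmod
    simpa using h
  have h4 := congrArg (Nat.cast : ℕ → ZMod r) h3
  push_cast at h4
  have hz2 : ((q : ZMod r) ^ (j + 1) - 1) * ((q : ZMod r) ^ j + 1) = 0 := by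
    linear_combination (-1 : ZMod r) * h4 + hz
  have hi : ∀ n : ℕ, (q : ZMod r) ^ n = 1 → (j + 1 + (j + 1)) ∣ n := by
    intro n hn
    have h := orderOf_dvd_of_pow_eq_one hn
    rwa [show orderOf ((q : ℕ) : ZMod r) = j + 1 + (j + 1) from hm] at h
  rcases mul_eq_zero.mp hz2 with h5 | h5
  · have h6 := hi (j + 1) (sub_eq_zero.mp h5)
    have h7 := Nat.le_of_dvd (by omega) h6
    omega
  · have h6 : (q : ZMod r) ^ j = -1 := eq_neg_of_add_eq_zero_left h5
    have h7 : (q : ZMod r) ^ (2 * j) = 1 := by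
      rw [mul_comm, pow_mul, h6]; norm_num
    have h8 := hi (2 * j) h7
    have hj0 : j = 0 := by
      by_contra hj
      have h9 := Nat.le_of_dvd (by omega) h8
      omega
    subst hj0
    have h9 : (2 : ZMod r) = 0 := by
      have h10 : (1 : ZMod r) = -1 := by simpa using h6
      linear_combination h10
    have h10 : r ∣ 2 := (ZMod.natCast_eq_zero_iff 2 r).mp (by exact_mod_cast h9)
    exact hStd.ne_two ((Nat.prime_dvd_prime_iff_eq hStd.prime Nat.prime_two).mp h10)

end Cfsg.Agent.Lib.Helper39.OHyp
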